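import Groth.Prelude.Def_W4c5suslinpi1abAdj
import Mathlib

/-! # Exterior products over a square of monoidal adjunctions -/

set_option autoImplicit false
universe v u

open CategoryTheory MonoidalCategory Functor.LaxMonoidal Functor.OplaxMonoidal W4c5suslinpi1ab

noncomputable section

namespace Groth.Agent.ExtProd

variable {S₀ : Type u} [Category.{v} S₀] [MonoidalCategory S₀]
    {Y₁ : Type u} [Category.{v} Y₁] [MonoidalCategory Y₁]
    {Y₂ : Type u} [Category.{v} Y₂] [MonoidalCategory Y₂]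
    {X : Type u} [Category.{v} X] [MonoidalCategory X]
    {fL : S₀ ⥤ Y₁} {fR : Y₁ ⥤ S₀} (adjf : fL ⊣ fR) [fR.LaxMonoidal] {gR : Y₂ ⥤ S₀}
    {pL : Y₁ ⥤ X} {pR : X ⥤ Y₁} (adjp : pL ⊣ pR) [pR.LaxMonoidal]
    {qL : Y₂ ⥤ X} {qR : X ⥤ Y₂} (adjq : qL ⊣ qR)
    (ν : qR ⋙ gR ⟶ pR ⋙ fR)

@[reassoc]
lemma projR_natural {A A' : Y₁} {B B' : S₀} (a : A ⟶ A') (b : B ⟶ B') :
    (fR.map a ⊗ₘ b) ≫ projR adjf A' B' = projR adjf A B ≫ fR.map (a ⊗ₘ fL.map b) := by
  have h := adjf.unit.naturality b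
  simp only [Functor.id_map, Functor.comp_map, Functor.id_obj, Functor.comp_obj] at h
  simp only [projR, Category.assoc]
  rw [← Functor.LaxMonoidal.μ_natural, tensorHom_def' (fR.map a) b,
    tensorHom_def' (fR.map a) (fR.map (fL.map b)), Category.assoc,
    ← whisker_exchange_assoc, ← whiskerLeft_comp_assoc, h, whiskerLeft_comp_assoc, Category.assoc]
  rfl

@[reassoc]
lemma projL_natural {A A' : Y₁} {B B' : X} (a : A ⟶ A') (b : B ⟶ B') :
    (a ⊗ₘ pR.map b) ≫ projL adjp A' B' = projL adjp A B ≫ pR.map (pL.map a ⊗ₘ b) := by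
  have h := adjp.unit.naturality a
  simp only [Functor.id_map, Functor.comp_map, Functor.id_obj, Functor.comp_obj] at h
  simp only [projL, Category.assoc]
  rw [← Functor.LaxMonoidal.μ_natural, tensorHom_def a (pR.map b),
    tensorHom_def (pR.map (pL.map a)) (pR.map b), Category.assoc,
    whisker_exchange_assoc, ← comp_whiskerRight_assoc, h, comp_whiskerRight_assoc, Category.assoc]
  rfl

lemma extProd_natural {A A' : Y₁} {B B' : Y₂} (a : A ⟶ A') (b : B ⟶ B') :
    (fR.map a ⊗ₘ gR.map b) ≫ extProd adjf adjp adjq ν A' B' =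
      extProd adjf adjp adjq ν A B ≫ fR.map (pR.map (pL.map a ⊗ₘ qL.map b)) := by
  have hb := (bcMor adjf adjq ν).naturality b
  simp only [Functor.comp_map, Functor.comp_obj] at hb
  simp only [extProd, Category.assoc]
  rw [projR_natural_assoc, ← fR.map_comp, ← fR.map_comp, ← fR.map_comp, ← fR.map_comp]
  congr 2
  rw [← projL_natural adjp, ← Category.assoc, ← Category.assoc]
  congr 1
  rw [← id_tensorHom, ← id_tensorHom, tensorHom_comp_tensorHom, tensorHom_comp_tensorHom,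
    Category.id_comp, Category.comp_id, hb]

variable {fS : S₀ ⥤ Y₁} (adjf' : fR ⊣ fS) {gS : S₀ ⥤ Y₂} (adjg' : gR ⊣ gS)
    {pS : Y₁ ⥤ X} (adjp' : pR ⊣ pS)
    [∀ (A : Y₁) (B : S₀), IsIso (projR adjf A B)]
    [∀ (A : Y₁) (B : X), IsIso (projL adjp A B)]
    [∀ B : Y₂, IsIso ((bcMor adjf adjq ν).app B)]

lemma extProd_comp_mate (A B : S₀) :
    extProd adjf adjp adjq ν (fS.obj A) (gS.obj B) ≫
      ((adjp'.comp adjf').homEquiv _ _).symm (prodShriek adjf adjf' adjg' adjp adjp' adjq ν A B) =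
      (adjf'.counit.app A ⊗ₘ adjg'.counit.app B) := by
  rw [Adjunction.comp_homEquiv]
  simp only [Equiv.symm_trans_apply, prodShriek, Equiv.symm_apply_apply]
  simp only [Adjunction.homEquiv_counit, extProd, Category.assoc, ← fR.map_comp_assoc,
    IsIso.hom_inv_id_assoc]
  rw [← whiskerLeft_comp_assoc, IsIso.hom_inv_id, MonoidalCategory.whiskerLeft_id, Category.id_comp,
    fR.map_comp, Category.assoc]
  have h : fR.map (fS.map (A ◁ adjg'.counit.app B)) ≫ adjf'.counit.app (A ⊗ B) =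
      adjf'.counit.app (A ⊗ gR.obj (gS.obj B)) ≫ (A ◁ adjg'.counit.app B) :=
    adjf'.counit.naturality (A ◁ adjg'.counit.app B)
  have h2 : fR.map (cupShriek adjf adjf' A (gR.obj (gS.obj B))) ≫ adjf'.counit.app (A ⊗ gR.obj (gS.obj B)) =
      inv (projR adjf (fS.obj A) (gR.obj (gS.obj B))) ≫ (adjf'.counit.app A ▷ gR.obj (gS.obj B)) := by
    exact (adjf'.homEquiv_counit (g := cupShriek adjf adjf' A (gR.obj (gS.obj B)))).symm.trans (Equiv.symm_apply_apply _ _)
  rw [h, reassoc_of% h2, IsIso.hom_inv_id_assoc, MonoidalCategory.tensorHom_def]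
  rfl

omit [∀ (A : Y₁) (B : S₀), IsIso (projR adjf A B)] in
lemma isIso_extProd [∀ (A : Y₁) (B : S₀), IsIso (projR adjf A B)] (A : Y₁) (B : Y₂) :
    IsIso (extProd adjf adjp adjq ν A B) := by
  unfold extProd
  infer_instance

end Groth.Agent.ExtProd

namespace Groth.Agent.ExtProd

section Cup

variable {C : Type u} [Category.{v} C] [MonoidalCategory C]
    {D : Type u} [Category.{v} D] [MonoidalCategory D]

lemma cupShriek_natural_right {L : C ⥤ D} {R : D ⥤ C} {S : C ⥤ D} (adj : L ⊣ R) (adj' : R ⊣ S)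
    [R.LaxMonoidal] [∀ (A : D) (B : C), IsIso (projR adj A B)] (A : C) {B B' : C} (b : B ⟶ B') :
    (S.obj A ◁ L.map b) ≫ cupShriek adj adj' A B' =
      cupShriek adj adj' A B ≫ S.map (A ◁ b) := by
  simp only [cupShriek]
  rw [← Adjunction.homEquiv_naturality_left, ← Adjunction.homEquiv_naturality_right]
  congr 1
  have hn : projR adj (S.obj A) B ≫ R.map (S.obj A ◁ L.map b) =
      (R.obj (S.obj A) ◁ b) ≫ projR adj (S.obj A) B' := by
    have := projR_natural adj (𝟙 (S.obj A)) b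
    simp only [id_tensorHom, R.map_id] at this
    exact this.symm
  have hx : (R.obj (S.obj A) ◁ b) ≫ adj'.counit.app A ▷ B' = adj'.counit.app A ▷ B ≫ A ◁ b :=
    whisker_exchange _ _
  rw [Category.assoc]
  erw [← hx]
  rw [← Category.assoc, ← Category.assoc]
  congr 1
  rw [IsIso.comp_inv_eq, Category.assoc, ← hn, IsIso.inv_hom_id_assoc]

end Cup

end Groth.Agent.ExtProd
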